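import Groth.Agent.Lib.DeRhamAlg.Basic
import Mathlib.RingTheory.IsTensorProduct
import Mathlib.RingTheory.TensorProduct.Basic
import Mathlib.LinearAlgebra.ExteriorAlgebra.OfAlternating

/-!
Exterior powers commute with extension of scalars.
-/

universe u u'

open exteriorPower TensorProduct

namespace Groth.Agent.Lib.DeRhamAlg.BaseChange

open Groth.Agent.Lib.DeRhamAlg.Basic

variable {A : Type u} [CommRing A] {M : Type u} [AddCommGroup M] [Module A M]
variable {B : Type u'} [CommRing B] [Algebra A B]
  {M' : Type u'} [AddCommGroup M'] [Module A M'] [Module B M'] [IsScalarTower A B M']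

/-- If `l : M → M'` is an extension of scalars, so is the induced map of exterior powers. -/
theorem isBaseChange_semimap (l : M →ₗ[A] M') (hl : IsBaseChange B l) (p : ℕ) :
    IsBaseChange B (semimap (B := B) l p) := by
  classical
  let E := ExteriorAlgebra A M
  let f₀ : M →ₗ[A] B ⊗[A] E :=
    (TensorProduct.mk A B E 1).comp (ExteriorAlgebra.ι A)
  let f : M' →ₗ[B] B ⊗[A] E := hl.lift f₀
  have hf : ∀ m, f (l m) = (1 : B) ⊗ₜ[A] ExteriorAlgebra.ι A m := fun m => hl.lift_eq f₀ m
  have hanti : ∀ x y, f x * f y + f y * f x = 0 := by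
    have h1 : ∀ (m : M) y, f (l m) * f y + f y * f (l m) = 0 := by
      intro m y
      induction y using hl.inductionOn with
      | zero => simp
      | tmul n =>
        rw [hf, hf, Algebra.TensorProduct.tmul_mul_tmul, Algebra.TensorProduct.tmul_mul_tmul,
          ← tmul_add, ExteriorAlgebra.ι_add_mul_swap, tmul_zero]
      | smul s n hn =>
        rw [map_smul, mul_smul_comm, smul_mul_assoc, ← smul_add, hn, smul_zero]
      | add a b ha hb =>
        rw [map_add, mul_add, add_mul, add_add_add_comm, ha, hb, add_zero]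
    intro x y
    induction x using hl.inductionOn with
    | zero => simp
    | tmul m => exact h1 m y
    | smul s n hn => rw [map_smul, mul_smul_comm, smul_mul_assoc, ← smul_add, hn, smul_zero]
    | add a b ha hb => rw [map_add, mul_add, add_mul, add_add_add_comm, ha, hb, add_zero]
  have hsq : ∀ x, f x * f x = 0 := by
    intro x
    induction x using hl.inductionOn with
    | zero => simp
    | tmul m =>
      rw [hf, Algebra.TensorProduct.tmul_mul_tmul, ExteriorAlgebra.ι_sq_zero, tmul_zero]
    | smul s n hn => rw [map_smul, mul_smul_comm, smul_mul_assoc, hn, smul_zero, smul_zero]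
    | add a b ha hb =>
      rw [map_add, add_mul, mul_add, mul_add, ha, hb, zero_add, add_zero, hanti]
  let F : ExteriorAlgebra B M' →ₐ[B] B ⊗[A] E := ExteriorAlgebra.lift B ⟨f, hsq⟩
  let r : ExteriorAlgebra A M →ₗ[A] ↥(⋀[A]^p M) :=
    ExteriorAlgebra.liftAlternating (fun i =>
      if h : i = p then (h ▸ (ιMulti A p : M [⋀^Fin p]→ₗ[A] ↥(⋀[A]^p M))) else 0)
  have hr : ∀ v : Fin p → M, r (ExteriorAlgebra.ιMulti A p v) = ιMulti A p v := by
    intro v
    simp [r, ExteriorAlgebra.liftAlternating_apply_ιMulti]
  let inv : ↥(⋀[B]^p M') →ₗ[B] B ⊗[A] ↥(⋀[A]^p M) :=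
    (r.baseChange B).comp (F.toLinearMap.comp (Submodule.subtype _))
  have hFι : ∀ {n : ℕ} (v : Fin n → M),
      F (ExteriorAlgebra.ιMulti B n (l ∘ v)) = (1 : B) ⊗ₜ[A] ExteriorAlgebra.ιMulti A n v := by
    intro n
    induction n with
    | zero => intro v; simp [Algebra.TensorProduct.one_def]
    | succ n ih =>
      intro v
      rw [ExteriorAlgebra.ιMulti_succ_apply, ExteriorAlgebra.ιMulti_succ_apply, map_mul,
        ExteriorAlgebra.lift_ι_apply]
      have e : Matrix.vecTail (l ∘ v) = l ∘ Matrix.vecTail v := rfl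
      rw [e, ih, Function.comp_apply, hf, Algebra.TensorProduct.tmul_mul_tmul, mul_one]
  let G : B ⊗[A] ↥(⋀[A]^p M) →ₗ[B] ↥(⋀[B]^p M') :=
    (TensorProduct.isBaseChange A _ B).lift (semimap (B := B) l p)
  have hG : ∀ x, G ((1 : B) ⊗ₜ[A] x) = semimap (B := B) l p x := fun x =>
    (TensorProduct.isBaseChange A _ B).lift_eq _ x
  have hleft : ∀ z, inv (G z) = z := by
    intro z
    induction z with
    | zero => simp
    | add a b ha hb => rw [map_add, map_add, ha, hb]
    | tmul b x =>
      rw [← mul_one b, ← smul_eq_mul, ← smul_tmul', map_smul, map_smul, hG]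
      congr 1
      refine linearMap_ext (f := (inv.restrictScalars A) ∘ₗ semimap (B := B) l p)
        (g := (TensorProduct.mk A B _ 1)) (fun v => ?_) x
      simp only [LinearMap.comp_apply, semimap_ιMulti, LinearMap.restrictScalars_apply, inv,
        Submodule.coe_subtype, exteriorPower.ιMulti_apply_coe, AlgHom.toLinearMap_apply, hFι,
        LinearMap.baseChange_tmul, hr, TensorProduct.mk_apply]
  have hsurj : Function.Surjective G := by
    rw [← LinearMap.range_eq_top, eq_top_iff]
    have hl' : Submodule.span B (Set.range l) = ⊤ := by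
      rw [eq_top_iff]
      rintro x -
      induction x using hl.inductionOn with
      | zero => exact zero_mem _
      | tmul m => exact Submodule.subset_span ⟨m, rfl⟩
      | smul s n hn => exact Submodule.smul_mem _ s hn
      | add a b ha hb => exact add_mem ha hb
    rw [← ιMulti_span_of_span (hs := hl'), Submodule.span_le]
    rintro _ ⟨a, ha, rfl⟩
    choose v hv using fun i => ha ⟨i, rfl⟩
    refine ⟨(1 : B) ⊗ₜ[A] ιMulti A p v, ?_⟩
    rw [hG, semimap_ιMulti]
    congr 1
    funext i
    exact hv i
  refine IsBaseChange.of_equiv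
    (LinearEquiv.ofBijective G ⟨Function.LeftInverse.injective hleft, hsurj⟩) (fun x => hG x)

end Groth.Agent.Lib.DeRhamAlg.BaseChange
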