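import Groth.Prelude.Def_DeRham
import Mathlib.LinearAlgebra.Alternating.Curry
import Mathlib.RingTheory.Kaehler.Basic

/-!
Basic lemmas on the degreewise de Rham differential and on exterior powers.
-/

universe v u u'

open exteriorPower

namespace Groth.Agent.Lib.DeRhamAlg.Basic

variable {R : Type v} {A : Type u} [CommRing R] [CommRing A] [Algebra R A]
variable {M : Type u} [AddCommGroup M] [Module A M] [Module R M]

/-- Induction on exterior powers along the elements `b₀ • δb₁ ∧ … ∧ δb_p`. -/
theorem gen_induction (δ : Derivation R A M) (hδ : Submodule.span A (Set.range δ) = ⊤) {p : ℕ}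
    {P : ↥(⋀[A]^p M) → Prop} (zero : P 0) (add : ∀ x y, P x → P y → P (x + y))
    (gen : ∀ (b₀ : A) (b : Fin p → A), P (DeRham.gen δ p b₀ b)) (x : ↥(⋀[A]^p M)) : P x := by
  have hx : x ∈ Submodule.span A (ιMulti A p '' {a : Fin p → M | Set.range a ⊆ Set.range δ}) := by
    rw [ιMulti_span_of_span (hs := hδ)]; trivial
  suffices h : ∀ c : A, P (c • x) by simpa using h 1
  refine Submodule.span_induction (p := fun y _ => ∀ c : A, P (c • y)) ?_ ?_ ?_ ?_ hx
  · rintro _ ⟨a, ha, rfl⟩ c
    choose b hb using fun i => ha ⟨i, rfl⟩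
    have h := gen c b
    simp only [DeRham.gen, hb] at h
    exact h
  · intro c; simpa using zero
  · intro y z _ _ hy hz c
    rw [smul_add]; exact add _ _ (hy c) (hz c)
  · intro e y _ hy c
    rw [smul_smul]; exact hy _

theorem span_range_D_eq_top (R A : Type u) [CommRing R] [CommRing A] [Algebra R A] :
    Submodule.span A (Set.range (KaehlerDifferential.D R A)) = ⊤ :=
  KaehlerDifferential.span_range_derivation R A

/-- Left exterior multiplication by a vector. -/
noncomputable def wedge (m : M) (p : ℕ) : ↥(⋀[A]^p M) →ₗ[A] ↥(⋀[A]^(p + 1) M) :=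
  alternatingMapLinearEquiv ((ιMulti A (p + 1)).curryLeft m)

omit [Module R M] in
@[simp] theorem wedge_ιMulti (m : M) {p : ℕ} (v : Fin p → M) :
    wedge m p (ιMulti A p v) = ιMulti A (p + 1) (Fin.cons m v) := by
  rw [wedge, alternatingMapLinearEquiv_apply_ιMulti]
  rfl

omit [Module R M] in
theorem linearMap_ext {N : Type*} [AddCommGroup N] [Module A N] {p : ℕ}
    {f g : ↥(⋀[A]^p M) →ₗ[A] N} (h : ∀ v, f (ιMulti A p v) = g (ιMulti A p v))
    (x : ↥(⋀[A]^p M)) : f x = g x :=
  LinearMap.congr_fun (exteriorPower.linearMap_ext (AlternatingMap.ext h)) x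

omit [Module R M] in
theorem wedge_add (m n : M) {p : ℕ} (x : ↥(⋀[A]^p M)) :
    wedge (m + n) p x = wedge m p x + wedge n p x := by
  simp only [wedge, map_add, LinearMap.add_apply]

omit [Module R M] in
theorem wedge_smul (c : A) (m : M) {p : ℕ} (x : ↥(⋀[A]^p M)) :
    wedge (c • m) p x = c • wedge m p x := by
  simp only [wedge, map_smul, LinearMap.smul_apply]

omit [Module R M] in
theorem wedge_self (m : M) {p : ℕ} (x : ↥(⋀[A]^p M)) : wedge m (p + 1) (wedge m p x) = 0 := by
  refine linearMap_ext (f := wedge m (p + 1) ∘ₗ wedge m p) (g := 0) (fun v => ?_) x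
  simp only [LinearMap.comp_apply, wedge_ιMulti, LinearMap.zero_apply]
  exact (ιMulti A (p + 1 + 1)).map_eq_zero_of_eq _ (by simp) (Fin.zero_ne_one)

omit [Module R M] in
theorem wedge_comm (m n : M) {p : ℕ} (x : ↥(⋀[A]^p M)) :
    wedge m (p + 1) (wedge n p x) = -(wedge n (p + 1) (wedge m p x)) := by
  have h := wedge_self (A := A) (m + n) x
  simp only [wedge_add, map_add, wedge_self, zero_add, add_zero] at h
  exact eq_neg_of_add_eq_zero_right h

omit [Module R M] in
theorem map_wedge {M' : Type u} [AddCommGroup M'] [Module A M'] (f : M →ₗ[A] M') (m : M) {p : ℕ}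
    (x : ↥(⋀[A]^p M)) :
    exteriorPower.map (p + 1) f (wedge m p x) = wedge (f m) p (exteriorPower.map p f x) := by
  refine linearMap_ext (f := exteriorPower.map (p + 1) f ∘ₗ wedge m p)
    (g := wedge (f m) p ∘ₗ exteriorPower.map p f) (fun v => ?_) x
  simp only [LinearMap.comp_apply, wedge_ιMulti, exteriorPower.map_apply_ιMulti]
  congr 1
  ext i
  refine Fin.cases ?_ (fun j => ?_) i <;> simp

section Rule

variable [IsScalarTower R A M] {δ : Derivation R A M}
  {d : ∀ p : ℕ, ↥(⋀[A]^p M) →ₗ[R] ↥(⋀[A]^(p + 1) M)}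

omit [IsScalarTower R A M] in
theorem gen_one (p : ℕ) (b : Fin p → A) :
    DeRham.gen δ p 1 b = ιMulti A p (fun i => δ (b i)) := one_smul _ _

omit [IsScalarTower R A M] in
theorem wedge_gen (c : A) (p : ℕ) (b₀ : A) (b : Fin p → A) :
    wedge (δ c) p (DeRham.gen δ p b₀ b) = DeRham.gen δ (p + 1) b₀ (Fin.cons c b) := by
  simp only [DeRham.gen, map_smul, wedge_ιMulti]
  congr 2
  ext i
  refine Fin.cases ?_ (fun j => ?_) i <;> simp

omit [IsScalarTower R A M] in
theorem ιMulti_cons_eq_gen (c : A) (p : ℕ) (b : Fin p → A) :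
    ιMulti A (p + 1) (Fin.cons (δ c) (fun i => δ (b i))) =
      DeRham.gen δ (p + 1) 1 (Fin.cons c b) := by
  rw [gen_one]
  congr 1
  ext i
  refine Fin.cases ?_ (fun j => ?_) i <;> simp

theorem d_gen (hd : DeRham.IsRule δ d) (p : ℕ) (b₀ : A) (b : Fin p → A) :
    d p (DeRham.gen δ p b₀ b) = DeRham.gen δ (p + 1) 1 (Fin.cons b₀ b) := by
  rw [hd, ιMulti_cons_eq_gen]

theorem d_gen_one (hd : DeRham.IsRule δ d) (p : ℕ) (b : Fin p → A) :
    d p (DeRham.gen δ p 1 b) = 0 := by
  rw [hd]
  exact (ιMulti A (p + 1)).map_coord_zero 0 (by simp)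

theorem d_d (hd : DeRham.IsRule δ d) (hδ : Submodule.span A (Set.range δ) = ⊤) (p : ℕ)
    (x : ↥(⋀[A]^p M)) : d (p + 1) (d p x) = 0 := by
  induction x using gen_induction δ hδ with
  | zero => simp
  | add x y hx hy => simp [hx, hy]
  | gen b₀ b => rw [d_gen hd, d_gen_one hd]

theorem d_smul (hd : DeRham.IsRule δ d) (hδ : Submodule.span A (Set.range δ) = ⊤) {p : ℕ}
    (a : A) (x : ↥(⋀[A]^p M)) : d p (a • x) = wedge (δ a) p x + a • d p x := by
  induction x using gen_induction δ hδ with
  | zero => simp
  | add x y hx hy => simp only [smul_add, map_add, hx, hy]; abel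
  | gen b₀ b =>
    have e : a • DeRham.gen δ p b₀ b = DeRham.gen δ p (a * b₀) b := smul_smul _ _ _
    rw [e, hd, hd, Derivation.leibniz]
    simp only [DeRham.gen, map_smul, ← wedge_ιMulti]
    rw [wedge_add, wedge_smul, wedge_smul]
    exact add_comm _ _

theorem d_wedge (hd : DeRham.IsRule δ d) (hδ : Submodule.span A (Set.range δ) = ⊤) {p : ℕ}
    (c : A) (x : ↥(⋀[A]^p M)) :
    d (p + 1) (wedge (δ c) p x) = -(wedge (δ c) (p + 1) (d p x)) := by
  induction x using gen_induction δ hδ with
  | zero => simp
  | add x y hx hy => simp only [map_add, hx, hy]; abel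
  | gen b₀ b =>
    rw [wedge_gen, d_gen hd, d_gen hd, ← wedge_gen, ← wedge_gen, ← wedge_gen,
      wedge_comm]

end Rule

section Kernel

omit [Module R M] in
/-- The kernel of a surjection on exterior powers is generated by wedges with the kernel. -/
theorem mem_span_of_map_eq_zero {M' : Type u'} [AddCommGroup M'] [Module A M'] (π : M →ₗ[A] M')
    (hπ : Function.Surjective π) {p : ℕ} (x : ↥(⋀[A]^(p + 1) M))
    (hx : exteriorPower.map (p + 1) π x = 0) :
    x ∈ Submodule.span A
      {z | ∃ (ω : M) (y : ↥(⋀[A]^p M)), π ω = 0 ∧ z = wedge ω p y} := by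
  classical
  set N := Submodule.span A {z | ∃ (ω : M) (y : ↥(⋀[A]^p M)), π ω = 0 ∧ z = wedge ω p y}
  let g : M [⋀^Fin (p + 1)]→ₗ[A] (↥(⋀[A]^(p + 1) M) ⧸ N) :=
    N.mkQ.compAlternatingMap (ιMulti A (p + 1))
  have h0 : ∀ (v : Fin (p + 1) → M) (i : Fin (p + 1)), π (v i) = 0 → g v = 0 := by
    have base : ∀ v : Fin (p + 1) → M, π (v 0) = 0 → g v = 0 := by
      intro v hv
      refine (Submodule.Quotient.mk_eq_zero N).mpr (Submodule.subset_span ?_)
      refine ⟨v 0, ιMulti A p (Fin.tail v), hv, ?_⟩
      rw [wedge_ιMulti, Fin.cons_self_tail]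
      rfl
    intro v i hv
    rcases eq_or_ne i 0 with rfl | hi
    · exact base v hv
    · have h := g.map_swap v (Ne.symm hi)
      rw [base (v ∘ Equiv.swap 0 i) (by simpa using hv)] at h
      exact neg_eq_zero.mp h.symm
  have hslot : ∀ (v : Fin (p + 1) → M) (i : Fin (p + 1)) (m n : M), π m = π n →
      g (Function.update v i m) = g (Function.update v i n) := by
    intro v i m n h
    have := g.map_update_sub v i m n
    rw [h0 _ i (by simp [h])] at this
    exact sub_eq_zero.mp this.symm
  have hcong : ∀ u v : Fin (p + 1) → M, (∀ i, π (u i) = π (v i)) → g u = g v := by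
    intro u v huv
    have : ∀ S : Finset (Fin (p + 1)), g (fun i => if i ∈ S then v i else u i) = g u := by
      intro S
      induction S using Finset.induction_on with
      | empty => simp
      | @insert a S ha ih =>
        rw [← ih]
        set w : Fin (p + 1) → M := fun i => if i ∈ S then v i else u i
        have e1 : (fun i => if i ∈ insert a S then v i else u i) = Function.update w a (v a) := by
          funext i
          rcases eq_or_ne i a with rfl | hi
          · simp
          · simp [w, hi]
        have e2 : w = Function.update w a (u a) := by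
          funext i
          rcases eq_or_ne i a with rfl | hi
          · simp [w, ha]
          · simp [hi]
        rw [e1]
        conv_rhs => rw [e2]
        exact hslot w a _ _ (huv a).symm
    simpa using (this Finset.univ).symm
  choose s hs using hπ
  let h : M' [⋀^Fin (p + 1)]→ₗ[A] (↥(⋀[A]^(p + 1) M) ⧸ N) :=
    { toFun := fun v => g (s ∘ v)
      map_update_add' := fun {_} v i a b => by
        rw [hcong (s ∘ Function.update v i (a + b)) (Function.update (s ∘ v) i (s a + s b))]
        · rw [g.map_update_add, ← Function.comp_update, ← Function.comp_update]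
        · intro j; rcases eq_or_ne j i with rfl | hj <;> simp_all
      map_update_smul' := fun {_} v i c a => by
        rw [hcong (s ∘ Function.update v i (c • a)) (Function.update (s ∘ v) i (c • s a))]
        · rw [g.map_update_smul, ← Function.comp_update]
        · intro j; rcases eq_or_ne j i with rfl | hj <;> simp_all
      map_eq_zero_of_eq' := fun v i j hv hij =>
        g.map_eq_zero_of_eq _ (by simp [hv]) hij }
  have key : alternatingMapLinearEquiv h (exteriorPower.map (p + 1) π x) = N.mkQ x := by
    refine linearMap_ext (f := alternatingMapLinearEquiv h ∘ₗ exteriorPower.map (p + 1) π)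
      (g := N.mkQ) (fun v => ?_) x
    rw [LinearMap.comp_apply, exteriorPower.map_apply_ιMulti, alternatingMapLinearEquiv_apply_ιMulti]
    exact hcong (s ∘ (π ∘ v)) v (fun i => hs _)
  rw [hx, map_zero] at key
  exact (Submodule.Quotient.mk_eq_zero N).mp key.symm

end Kernel

section Semilinear

variable {B : Type u'} [CommRing B] [Algebra A B]
  {M' : Type u'} [AddCommGroup M'] [Module A M'] [Module B M'] [IsScalarTower A B M']

/-- The map of exterior powers over a change of rings. -/
noncomputable def semimap (l : M →ₗ[A] M') (p : ℕ) : ↥(⋀[A]^p M) →ₗ[A] ↥(⋀[B]^p M') :=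
  alternatingMapLinearEquiv
    { toFun := fun v => ιMulti B p (l ∘ v)
      map_update_add' := fun {_} v i a b => by
        rw [Function.comp_update, Function.comp_update, Function.comp_update, map_add,
          AlternatingMap.map_update_add]
      map_update_smul' := fun {_} v i c a => by
        rw [Function.comp_update, Function.comp_update, map_smul, ← algebraMap_smul B c (l a),
          AlternatingMap.map_update_smul, algebraMap_smul]
      map_eq_zero_of_eq' := fun v i j hv hij =>
        (ιMulti B p).map_eq_zero_of_eq _ (by simp [hv]) hij }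

omit [Module R M] in
@[simp] theorem semimap_ιMulti (l : M →ₗ[A] M') {p : ℕ} (v : Fin p → M) :
    semimap (B := B) l p (ιMulti A p v) = ιMulti B p (l ∘ v) := by
  rw [semimap, alternatingMapLinearEquiv_apply_ιMulti]
  rfl

end Semilinear

end Groth.Agent.Lib.DeRhamAlg.Basic
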