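import Groth.Agent.Lib.DeRhamAlg.Basic
import Mathlib.LinearAlgebra.Alternating.Uncurry.Fin

/-!
Contraction by a linear form and the Cartan formula for the degreewise de Rham differential.
-/

universe v u

open exteriorPower

namespace Groth.Agent.Lib.DeRhamAlg.Homotopy

open Groth.Agent.Lib.DeRhamAlg.Basic

variable {R : Type v} {A : Type u} [CommRing R] [CommRing A] [Algebra R A]
variable {M : Type u} [AddCommGroup M] [Module A M] [Module R M] [IsScalarTower R A M]

/-- Contraction with a linear form. -/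
noncomputable def contract (φ : M →ₗ[A] A) (p : ℕ) : ↥(⋀[A]^(p + 1) M) →ₗ[A] ↥(⋀[A]^p M) :=
  alternatingMapLinearEquiv (AlternatingMap.alternatizeUncurryFin (φ.smulRight (ιMulti A p)))

omit [Module R M] [IsScalarTower R A M] in
theorem contract_ιMulti (φ : M →ₗ[A] A) {p : ℕ} (v : Fin (p + 1) → M) :
    contract φ p (ιMulti A (p + 1) v) =
      ∑ i : Fin (p + 1), (-1) ^ (i : ℕ) • (φ (v i) • ιMulti A p (Fin.removeNth i v)) := by
  rw [contract, alternatingMapLinearEquiv_apply_ιMulti, AlternatingMap.alternatizeUncurryFin_apply]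
  rfl

omit [Module R M] [IsScalarTower R A M] in
theorem contract_wedge (φ : M →ₗ[A] A) (m : M) {p : ℕ} (x : ↥(⋀[A]^(p + 1) M)) :
    contract φ (p + 1) (wedge m (p + 1) x) = φ m • x - wedge m p (contract φ p x) := by
  refine linearMap_ext (f := contract φ (p + 1) ∘ₗ wedge m (p + 1))
    (g := φ m • LinearMap.id - wedge m p ∘ₗ contract φ p) (fun v => ?_) x
  simp only [LinearMap.comp_apply, LinearMap.sub_apply, LinearMap.smul_apply, LinearMap.id_apply,
    wedge_ιMulti, contract_ιMulti, map_sum, map_zsmul, map_smul]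
  rw [Fin.sum_univ_succ, sub_eq_add_neg, ← Finset.sum_neg_distrib]
  congr 1
  · rw [Fin.removeNth_zero, Fin.tail_cons]
    simp
  · refine Finset.sum_congr rfl fun i _ => ?_
    have e : Fin.removeNth i.succ (Fin.cons m v : Fin (p + 1 + 1) → M) =
        Fin.cons m (Fin.removeNth i v) := by
      funext j
      refine Fin.cases ?_ (fun j => ?_) j <;> simp [Fin.removeNth]
    rw [e, Fin.cons_succ, Fin.val_succ, pow_succ, mul_neg_one, neg_smul]

omit [Module R M] [IsScalarTower R A M] in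
theorem contract_wedge_zero (φ : M →ₗ[A] A) (m : M) (x : ↥(⋀[A]^0 M)) :
    contract φ 0 (wedge m 0 x) = φ m • x := by
  refine linearMap_ext (f := contract φ 0 ∘ₗ wedge m 0) (g := φ m • LinearMap.id) (fun v => ?_) x
  simp only [LinearMap.comp_apply, LinearMap.smul_apply, LinearMap.id_apply, wedge_ιMulti,
    contract_ιMulti]
  rw [Fin.sum_univ_one, Fin.removeNth_zero, Fin.tail_cons]
  simp

/-- The Lie derivative `d ι + ι d` in positive degree. -/
noncomputable def lie (d : ∀ p : ℕ, ↥(⋀[A]^p M) →ₗ[R] ↥(⋀[A]^(p + 1) M)) (φ : M →ₗ[A] A) (p : ℕ) :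
    ↥(⋀[A]^(p + 1) M) →ₗ[R] ↥(⋀[A]^(p + 1) M) :=
  d p ∘ₗ (contract φ p).restrictScalars R + (contract φ (p + 1)).restrictScalars R ∘ₗ d (p + 1)

variable {δ : Derivation R A M} {d : ∀ p : ℕ, ↥(⋀[A]^p M) →ₗ[R] ↥(⋀[A]^(p + 1) M)}
variable (φ : M →ₗ[A] A)

theorem lie_apply (p : ℕ) (x : ↥(⋀[A]^(p + 1) M)) :
    lie d φ p x = d p (contract φ p x) + contract φ (p + 1) (d (p + 1) x) := rfl

theorem d_lie (hd : DeRham.IsDiff δ d) (p : ℕ) (x : ↥(⋀[A]^(p + 1) M)) :
    d (p + 1) (lie d φ p x) = lie d φ (p + 1) (d (p + 1) x) := by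
  have h1 : ∀ q (y : ↥(⋀[A]^q M)), d (q + 1) (d q y) = 0 := fun q y => LinearMap.congr_fun (hd.2 q) y
  simp [lie_apply, h1]

theorem lie_smul (hd : DeRham.IsRule δ d) (hδ : Submodule.span A (Set.range δ) = ⊤) {p : ℕ}
    (a : A) (x : ↥(⋀[A]^(p + 1) M)) :
    lie d φ p (a • x) = φ (δ a) • x + a • lie d φ p x := by
  rw [lie_apply, lie_apply, map_smul, d_smul hd hδ, d_smul hd hδ, map_add, map_smul,
    contract_wedge, smul_add]
  abel

theorem lie_wedge (hd : DeRham.IsRule δ d) (hδ : Submodule.span A (Set.range δ) = ⊤) {p : ℕ}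
    (c : A) (x : ↥(⋀[A]^(p + 1) M)) :
    lie d φ (p + 1) (wedge (δ c) (p + 1) x) =
      wedge (δ (φ (δ c))) (p + 1) x + wedge (δ c) (p + 1) (lie d φ p x) := by
  rw [lie_apply, lie_apply, contract_wedge, map_sub, d_smul hd hδ, d_wedge hd hδ, d_wedge hd hδ,
    map_neg, contract_wedge, map_add]
  abel

theorem lie_wedge_zero (hd : DeRham.IsRule δ d) (hδ : Submodule.span A (Set.range δ) = ⊤)
    (c : A) (x : ↥(⋀[A]^0 M)) :
    lie d φ 0 (wedge (δ c) 0 x) =
      wedge (δ (φ (δ c))) 0 x + wedge (δ c) 0 (contract φ 0 (d 0 x)) := by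
  rw [lie_apply, contract_wedge_zero, d_smul hd hδ, d_wedge hd hδ, map_neg, contract_wedge]
  abel

/-- On a wedge of differentials of eigenfunctions of weight one, the Lie derivative is the degree. -/
theorem lie_gen_one (hd : DeRham.IsRule δ d) (hδ : Submodule.span A (Set.range δ) = ⊤) :
    ∀ (p : ℕ) (b : Fin (p + 1) → A), (∀ i, φ (δ (b i)) = b i) →
      lie d φ p (DeRham.gen δ (p + 1) 1 b) = ((p : A) + 1) • DeRham.gen δ (p + 1) 1 b := by
  intro p
  induction p with
  | zero =>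
    intro b hb
    rw [show b = Fin.cons (b 0) (Fin.tail b) from (Fin.cons_self_tail b).symm, ← wedge_gen,
      lie_wedge_zero φ hd hδ, d_gen_one hd, map_zero, map_zero, hb 0]
    simp
  | succ p ih =>
    intro b hb
    rw [show b = Fin.cons (b 0) (Fin.tail b) from (Fin.cons_self_tail b).symm, ← wedge_gen,
      lie_wedge φ hd hδ, ih (Fin.tail b) (fun i => hb i.succ), map_smul, hb 0, Nat.cast_succ,
      add_smul ((p : A) + 1) 1, one_smul]
    exact add_comm _ _

end Groth.Agent.Lib.DeRhamAlg.Homotopy
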